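import Cfsg.Agent.Lib.Helper4.F24He.Words
import Cfsg.Agent.Lib.Helper6.WP9
import Cfsg.Agent.Lib.Helper6.TCD.Fi24a.Par

set_option autoImplicit false

/-! # Checking that a product of the seven words fixes the twelve base points -/

namespace Cfsg.Agent.Lib.Helper4.F24He

open Cfsg.Agent.Lib.Helper6.TC Cfsg.Agent.Lib.Helper6.TCD.Fi24a

/-- the word in the twelve letters of a word in the seven words -/
def expandW (ws : List (List ℕ)) (r : List ℕ) : List ℕ := r.flatMap fun i => ws.getD i []

theorem expandW_nil (ws : List (List ℕ)) : expandW ws [] = [] := rfl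

theorem expandW_cons (ws : List (List ℕ)) (i : ℕ) (r : List ℕ) :
    expandW ws (i :: r) = ws.getD i [] ++ expandW ws r := by
  unfold expandW
  rw [List.flatMap_cons]

theorem expandW_append (ws : List (List ℕ)) (u v : List ℕ) :
    expandW ws (u ++ v) = expandW ws u ++ expandW ws v := by
  unfold expandW
  rw [List.flatMap_append]

/-- the letters of the expansion are letters of the words -/
theorem expandW_lt (ws : List (List ℕ)) (n : ℕ) (hws : ∀ w ∈ ws, ∀ c ∈ w, c < n) (r : List ℕ) :
    ∀ c ∈ expandW ws r, c < n := by
  intro c hc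
  unfold expandW at hc
  rw [List.mem_flatMap] at hc
  obtain ⟨i, _, hci⟩ := hc
  by_cases hi : i < ws.length
  · rw [List.getD_eq_getElem _ _ hi] at hci
    exact hws _ (List.getElem_mem _) c hci
  · rw [List.getD_eq_default _ _ (by omega)] at hci
    simp at hci

/-- the word fixes the twelve base points -/
noncomputable def chkW (w : List ℕ) : Bool := basePts.all fun p => Nat.beq (wappS px w p) p

theorem chkW_spec {w : List ℕ} (h : chkW w = true) : ∀ p ∈ basePts, wapp px w p = p := by
  intro p hp
  unfold chkW at h
  rw [List.all_eq_true] at h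
  have h1 := Nat.eq_of_beq_eq_true (h p hp)
  rw [wappS_eq] at h1
  exact h1

/-- the letters of the seven words -/
theorem heWords_lt : ∀ w ∈ heWords, ∀ c ∈ w, c < 12 := by decide +kernel

end Cfsg.Agent.Lib.Helper4.F24He
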