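import Cfsg.Agent.S1698
import Cfsg.Agent.Lib.Helper6.LB3
import Cfsg.Agent.Lib.Helper4.F24He.Chk

set_option autoImplicit false
set_option maxRecDepth 100000

/-! # The points of the twelve generating transpositions form a base of the presented group Fi24 -/

namespace Cfsg.Agent.Lib.Helper4.F24He

open Cfsg.Spor Cfsg.Agent.Lib.Helper6.TC
open Cfsg.Agent.Lib.Helper6.TCP.Fi24
open Cfsg.Agent.Lib.Helper6.TCD.Fi24a hiding H0
open Cfsg.Agent.Lib.Helper6.Fi24Theta Cfsg.Agent.Lib.Helper6.Fi24Orb Cfsg.Agent.Lib.Helper6.Fi24H0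

/-- the element of a word in the twelve letters -/
noncomputable def elt (w : List ℕ) : Fi24 := PresentedGroup.mk Rels (wordElt gc w)

theorem elt_nil : elt [] = 1 := by
  unfold elt
  rw [wordElt_nil, map_one]

theorem elt_append (u v : List ℕ) : elt (u ++ v) = elt u * elt v := by
  unfold elt
  rw [wordElt_append, map_mul]

theorem elt_single (c : ℕ) : elt [c] = X (gen c) := X_word c

theorem elt_cons (c : ℕ) (w : List ℕ) : elt (c :: w) = X (gen c) * elt w := by
  rw [← List.singleton_append, elt_append, elt_single]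

theorem elt_reverse (w : List ℕ) : elt w.reverse = (elt w)⁻¹ := by
  induction w with
  | nil => rw [List.reverse_nil, elt_nil, inv_one]
  | cons c w ih =>
    rw [List.reverse_cons, elt_append, ih, elt_single, elt_cons, mul_inv_rev, X_inv]

/-- the permutation representation on the 306936 cosets -/
noncomputable def phi : Fi24 →* Equiv.Perm (Fin 306936) := Classical.choose rep

/-- the first point -/
def p0 : Fin 306936 := ⟨0, by decide⟩

theorem phi_word : ∀ w, (∀ c ∈ w, c < 12) → ∀ p : Fin 306936,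
    ((phi (PresentedGroup.mk Rels (wordElt gc w)))⁻¹ p).val = wapp px w p.val :=
  (Classical.choose_spec rep).1

theorem phi_elt (w : List ℕ) (hw : ∀ c ∈ w, c < 12) (p : Fin 306936) :
    ((phi (elt w))⁻¹ p).val = wapp px w p.val := phi_word w hw p

theorem phi_fix_H0 : ∀ h ∈ H0, phi h p0 = p0 := (Classical.choose_spec rep).2.1

theorem k_moves : wapp px [1] 0 ≠ 0 := by decide +kernel

/-- the letter `k` moves the first point -/
theorem Xk_moves : phi (X (gen 1)) p0 ≠ p0 := by
  intro hk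
  have h2 := phi_elt [1] (by decide) p0
  rw [elt_single] at h2
  have h3 : (phi (X (gen 1)))⁻¹ p0 = p0 := by
    rw [Equiv.Perm.inv_eq_iff_eq]
    exact hk.symm
  rw [h3] at h2
  exact k_moves h2.symm

/-- the stabilizer of the first point is the subgroup `H0` -/
theorem fixer_eq : fixer phi p0 = H0 := by
  have hle : H0 ≤ fixer phi p0 := fun h hh => phi_fix_H0 h hh
  rcases hmax _ hle with h | h
  · exact h
  · exfalso
    have hk : X (gen 1) ∈ fixer phi p0 := by
      rw [h]
      trivial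
    rw [mem_fixer] at hk
    exact Xk_moves hk

theorem Xk_not_mem : X (gen 1) ∉ H0 := by
  intro h
  rw [← fixer_eq, mem_fixer] at h
  exact Xk_moves h

/-- a central element lying in `H0` is trivial -/
theorem eq_one_of_central (g : Fi24) (hcen : ∀ x : Fi24, x * g = g * x) (hgH : g ∈ H0) : g = 1 := by
  have hN : (Subgroup.zpowers g).Normal := by
    constructor
    intro n hn x
    have hc : x * n = n * x := by
      obtain ⟨k, rfl⟩ := Subgroup.mem_zpowers_iff.mp hn
      exact (Commute.zpow_right (hcen x) k)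
    rw [hc, mul_assoc, mul_inv_cancel, mul_one]
    exact hn
  have hle : Subgroup.zpowers g ≤ H0 := Subgroup.zpowers_le.mpr hgH
  have hbot := Cfsg.Agent.S1698.hcore _ hN hle
  have : g ∈ Subgroup.zpowers g := Subgroup.mem_zpowers g
  rw [hbot, Subgroup.mem_bot] at this
  exact this

/-- the words conjugating the letter `l` to the other letters, along the tree -/
def cw : ℕ → List ℕ
  | 0 => []
  | 1 => [0, 1]
  | 2 => [1, 2, 0, 1]
  | 3 => [2, 3, 1, 2, 0, 1]
  | 4 => [3, 4, 2, 3, 1, 2, 0, 1]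
  | 5 => [4, 5, 3, 4, 2, 3, 1, 2, 0, 1]
  | 6 => [5, 6, 4, 5, 3, 4, 2, 3, 1, 2, 0, 1]
  | 7 => [6, 7, 5, 6, 4, 5, 3, 4, 2, 3, 1, 2, 0, 1]
  | 8 => [7, 8, 6, 7, 5, 6, 4, 5, 3, 4, 2, 3, 1, 2, 0, 1]
  | 9 => [8, 9, 7, 8, 6, 7, 5, 6, 4, 5, 3, 4, 2, 3, 1, 2, 0, 1]
  | 10 => [5, 10, 4, 5, 3, 4, 2, 3, 1, 2, 0, 1]
  | _ => [10, 11, 5, 10, 4, 5, 3, 4, 2, 3, 1, 2, 0, 1]

theorem cw_lt (c : ℕ) : ∀ x ∈ (cw c).reverse, x < 12 := by
  intro x hx
  rw [List.mem_reverse] at hx
  unfold cw at hx
  split at hx <;> revert x <;> decide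

theorem conj_step (x y : Fi24.Gen) (hxy : coxLabel Fi24.edges x y = 3) (u : Fi24)
    (hu : u * L * u⁻¹ = X x) : (X x * X y * u) * L * (X x * X y * u)⁻¹ = X y := by
  have h3 : (X x * X y) ^ 3 = 1 := by
    have := cox_rel x y
    rw [hxy, map_pow, map_mul] at this
    exact this
  have hy := X_sq y
  have h6 : X x * X y * X x * X y * X x * X y = 1 := by
    rw [pow_succ, pow_two] at h3
    rw [← h3]
    group
  calc (X x * X y * u) * L * (X x * X y * u)⁻¹
      = X x * X y * (u * L * u⁻¹) * (X y)⁻¹ * (X x)⁻¹ := by group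
    _ = X x * X y * X x * X y * X x := by rw [hu, X_inv, X_inv]
    _ = X x * X y * X x * X y * X x * (X y * X y) := by rw [hy, mul_one]
    _ = (X x * X y * X x * X y * X x * X y) * X y := by group
    _ = X y := by rw [h6, one_mul]

theorem cw_step (cx cy : ℕ) (w : List ℕ) (hxy : coxLabel Fi24.edges (gen cx) (gen cy) = 3)
    (hu : elt w * L * (elt w)⁻¹ = X (gen cx)) :
    elt (cx :: cy :: w) * L * (elt (cx :: cy :: w))⁻¹ = X (gen cy) := by
  rw [elt_cons, elt_cons, ← mul_assoc]
  exact conj_step _ _ hxy _ hu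

/-- the letters are conjugates of the letter `l` -/
theorem cw_conj : ∀ c < 12, elt (cw c) * L * (elt (cw c))⁻¹ = X (gen c) := by
  have h0 : elt (cw 0) * L * (elt (cw 0))⁻¹ = X (gen 0) := by
    show elt [] * L * (elt [])⁻¹ = L
    rw [elt_nil]
    group
  have h1 : elt (cw 1) * L * (elt (cw 1))⁻¹ = X (gen 1) :=
    cw_step 0 1 (cw 0) (by decide) h0
  have h2 : elt (cw 2) * L * (elt (cw 2))⁻¹ = X (gen 2) :=
    cw_step 1 2 (cw 1) (by decide) h1
  have h3 : elt (cw 3) * L * (elt (cw 3))⁻¹ = X (gen 3) :=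
    cw_step 2 3 (cw 2) (by decide) h2
  have h4 : elt (cw 4) * L * (elt (cw 4))⁻¹ = X (gen 4) :=
    cw_step 3 4 (cw 3) (by decide) h3
  have h5 : elt (cw 5) * L * (elt (cw 5))⁻¹ = X (gen 5) :=
    cw_step 4 5 (cw 4) (by decide) h4
  have h6 : elt (cw 6) * L * (elt (cw 6))⁻¹ = X (gen 6) :=
    cw_step 5 6 (cw 5) (by decide) h5
  have h7 : elt (cw 7) * L * (elt (cw 7))⁻¹ = X (gen 7) :=
    cw_step 6 7 (cw 6) (by decide) h6
  have h8 : elt (cw 8) * L * (elt (cw 8))⁻¹ = X (gen 8) :=
    cw_step 7 8 (cw 7) (by decide) h7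
  have h9 : elt (cw 9) * L * (elt (cw 9))⁻¹ = X (gen 9) :=
    cw_step 8 9 (cw 8) (by decide) h8
  have h10 : elt (cw 10) * L * (elt (cw 10))⁻¹ = X (gen 10) :=
    cw_step 5 10 (cw 5) (by decide) h5
  have h11 : elt (cw 11) * L * (elt (cw 11))⁻¹ = X (gen 11) :=
    cw_step 10 11 (cw 10) (by decide) h10
  intro c hc
  interval_cases c
  · exact h0
  · exact h1
  · exact h2
  · exact h3
  · exact h4
  · exact h5
  · exact h6
  · exact h7
  · exact h8
  · exact h9
  · exact h10
  · exact h11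

/-- an element fixing the point of a letter commutes with the letter -/
theorem comm_of_fix (g : Fi24) (c : ℕ) (hc : c < 12) (p : Fin 306936)
    (hp : p.val = wapp px (cw c).reverse 0) (hg : phi g p = p) :
    g * X (gen c) = X (gen c) * g := by
  have h1 : phi (elt (cw c)) p0 = p := by
    have h := phi_elt (cw c).reverse (cw_lt c) p0
    rw [elt_reverse, map_inv, inv_inv] at h
    exact Fin.ext (by rw [h, hp]; rfl)
  have h2 : (elt (cw c))⁻¹ * g * elt (cw c) ∈ H0 := by
    rw [← fixer_eq, mem_fixer, map_mul, map_mul, Equiv.Perm.mul_apply, Equiv.Perm.mul_apply, h1, hg,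
      map_inv, ← h1, Equiv.Perm.inv_def, Equiv.symm_apply_apply]
  have h3 := L_central _ h2
  rw [← cw_conj c hc]
  calc g * (elt (cw c) * L * (elt (cw c))⁻¹)
      = elt (cw c) * ((elt (cw c))⁻¹ * g * elt (cw c) * L) * (elt (cw c))⁻¹ := by group
    _ = elt (cw c) * (L * ((elt (cw c))⁻¹ * g * elt (cw c))) * (elt (cw c))⁻¹ := by rw [h3]
    _ = elt (cw c) * L * (elt (cw c))⁻¹ * g := by group

/-- the twelve base points -/
def bsF : List (Fin 306936) := [⟨0, by decide⟩, ⟨2, by decide⟩, ⟨6, by decide⟩, ⟨12, by decide⟩, ⟨24, by decide⟩, ⟨51, by decide⟩, ⟨113, by decide⟩, ⟨249, by decide⟩, ⟨510, by decide⟩, ⟨964, by decide⟩, ⟨116, by decide⟩, ⟨254, by decide⟩]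

theorem bsF_val : ∀ b ∈ bsF, b.val ∈ basePts := by
  intro b hb
  simp only [bsF, List.mem_cons, List.not_mem_nil, or_false] at hb
  rcases hb with rfl | rfl | rfl | rfl | rfl | rfl | rfl | rfl | rfl | rfl | rfl | rfl <;>
    simp [basePts]

theorem bsF_pt : ∀ c < 12, ∃ p ∈ bsF, p.val = wapp px (cw c).reverse 0 := by
  intro c hc
  interval_cases c
  · exact ⟨⟨0, by decide⟩, by simp [bsF], by decide +kernel⟩
  · exact ⟨⟨2, by decide⟩, by simp [bsF], by decide +kernel⟩
  · exact ⟨⟨6, by decide⟩, by simp [bsF], by decide +kernel⟩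
  · exact ⟨⟨12, by decide⟩, by simp [bsF], by decide +kernel⟩
  · exact ⟨⟨24, by decide⟩, by simp [bsF], by decide +kernel⟩
  · exact ⟨⟨51, by decide⟩, by simp [bsF], by decide +kernel⟩
  · exact ⟨⟨113, by decide⟩, by simp [bsF], by decide +kernel⟩
  · exact ⟨⟨249, by decide⟩, by simp [bsF], by decide +kernel⟩
  · exact ⟨⟨510, by decide⟩, by simp [bsF], by decide +kernel⟩
  · exact ⟨⟨964, by decide⟩, by simp [bsF], by decide +kernel⟩
  · exact ⟨⟨116, by decide⟩, by simp [bsF], by decide +kernel⟩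
  · exact ⟨⟨254, by decide⟩, by simp [bsF], by decide +kernel⟩

theorem gen_col (x : Fi24.Gen) : gen (col x) = x := by cases x <;> rfl

/-- the elements fixing the twelve base points are trivial -/
theorem ptFix_bot : ptFix phi bsF = ⊥ := by
  rw [eq_bot_iff]
  intro g hg
  rw [mem_ptFix] at hg
  rw [Subgroup.mem_bot]
  have hcomm : ∀ c < 12, g * X (gen c) = X (gen c) * g := by
    intro c hc
    obtain ⟨p, hp, hpv⟩ := bsF_pt c hc
    exact comm_of_fix g c hc p hpv (hg p hp)
  have htop : Subgroup.centralizer {g} = ⊤ := by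
    rw [eq_top_iff, ← PresentedGroup.closure_range_of Rels, Subgroup.closure_le]
    rintro _ ⟨x, rfl⟩
    rw [SetLike.mem_coe, Subgroup.mem_centralizer_iff]
    intro y hy
    rw [Set.mem_singleton_iff] at hy
    subst hy
    have h := hcomm (col x) (col_lt x)
    rw [gen_col] at h
    exact h
  have hcen : ∀ x : Fi24, x * g = g * x := by
    intro x
    have hx : x ∈ Subgroup.centralizer {g} := by
      rw [htop]
      trivial
    rw [Subgroup.mem_centralizer_iff] at hx
    exact (hx g rfl).symm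
  have hgH : g ∈ H0 := by
    rw [← fixer_eq, mem_fixer]
    exact hg p0 (by simp [bsF, p0])
  exact eq_one_of_central g hcen hgH

/-- a word fixing the twelve base points is trivial -/
theorem elt_eq_one_of_chk {w : List ℕ} (hwl : ∀ c ∈ w, c < 12) (h : chkW w = true) : elt w = 1 :=
  mk_eq_one_of_fix_base (gc := gc) phi_word ptFix_bot w hwl
    (fun b hb => chkW_spec h b.val (bsF_val b hb))

/-- a word moving a point is not trivial -/
theorem elt_ne_one_of_move {w : List ℕ} (hwl : ∀ c ∈ w, c < 12) (q : ℕ) (hq : q < 306936)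
    (h : wapp px w q ≠ q) : elt w ≠ 1 := by
  intro e
  have h1 := phi_elt w hwl ⟨q, hq⟩
  rw [e, map_one, inv_one] at h1
  exact h h1.symm

end Cfsg.Agent.Lib.Helper4.F24He
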