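import Cfsg.Agent.Lib.Helper4.F24He.Chk

set_option autoImplicit false
set_option maxRecDepth 100000

/-! # Relators of the Held group on the seven words: the twelve base points are fixed (part B) -/

namespace Cfsg.Agent.Lib.Helper4.F24He

theorem chk_e4 : chkW (expandW heWords (List.replicate 4 [2, 3, 5, 6]).flatten) = true := by decide +kernel

theorem chk_p05 : chkW (expandW heWords (List.replicate 2 [0, 5]).flatten) = true := by decide +kernel

theorem chk_p35 : chkW (expandW heWords (List.replicate 3 [3, 5]).flatten) = true := by decide +kernel

theorem chk_p45 : chkW (expandW heWords (List.replicate 2 [4, 5]).flatten) = true := by decide +kernel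

theorem chk_sq1 : chkW (expandW heWords [1, 1]) = true := by decide +kernel

theorem chk_sq5 : chkW (expandW heWords [5, 5]) = true := by decide +kernel

end Cfsg.Agent.Lib.Helper4.F24He
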