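import Cfsg.Agent.Lib.Helper4.F24He.Chk

set_option autoImplicit false
set_option maxRecDepth 100000

/-! # Relators of the Held group on the seven words: the twelve base points are fixed (part D) -/

namespace Cfsg.Agent.Lib.Helper4.F24He

theorem chk_e1 : chkW (expandW heWords [4, 6, 5, 6, 5]) = true := by decide +kernel

theorem chk_e2 : chkW (expandW heWords [4, 2, 1, 0, 2, 1, 0, 2, 1, 0]) = true := by decide +kernel

theorem chk_p02 : chkW (expandW heWords (List.replicate 2 [0, 2]).flatten) = true := by decide +kernel

theorem chk_p03 : chkW (expandW heWords (List.replicate 2 [0, 3]).flatten) = true := by decide +kernel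

theorem chk_p34 : chkW (expandW heWords (List.replicate 3 [3, 4]).flatten) = true := by decide +kernel

theorem chk_p46 : chkW (expandW heWords (List.replicate 2 [4, 6]).flatten) = true := by decide +kernel

theorem chk_sq0 : chkW (expandW heWords [0, 0]) = true := by decide +kernel

end Cfsg.Agent.Lib.Helper4.F24He
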