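import Cfsg.Agent.Lib.Helper4.F24He.Chk

set_option autoImplicit false
set_option maxRecDepth 100000

/-! # Relators of the Held group on the seven words: the twelve base points are fixed (part E) -/

namespace Cfsg.Agent.Lib.Helper4.F24He

theorem chk_p01 : chkW (expandW heWords (List.replicate 4 [0, 1]).flatten) = true := by decide +kernel

theorem chk_p12 : chkW (expandW heWords (List.replicate 3 [1, 2]).flatten) = true := by decide +kernel

theorem chk_p15 : chkW (expandW heWords (List.replicate 2 [1, 5]).flatten) = true := by decide +kernel

theorem chk_p24 : chkW (expandW heWords (List.replicate 2 [2, 4]).flatten) = true := by decide +kernel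

theorem chk_p56 : chkW (expandW heWords (List.replicate 4 [5, 6]).flatten) = true := by decide +kernel

theorem chk_sq4 : chkW (expandW heWords [4, 4]) = true := by decide +kernel

theorem chk_sq6 : chkW (expandW heWords [6, 6]) = true := by decide +kernel

end Cfsg.Agent.Lib.Helper4.F24He
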