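import Cfsg.Agent.Lib.Helper4.F24He.Base
import Cfsg.Agent.Lib.Helper4.F24He.ChkA
import Cfsg.Agent.Lib.Helper4.F24He.ChkB
import Cfsg.Agent.Lib.Helper4.F24He.ChkC
import Cfsg.Agent.Lib.Helper4.F24He.ChkD
import Cfsg.Agent.Lib.Helper4.F24He.ChkE
import Cfsg.Agent.S1695

set_option autoImplicit false
set_option maxRecDepth 100000

/-! # A subgroup of the commutator subgroup of Fi24 that is simple of the order of the Held group -/

namespace Cfsg.Agent.Lib.Helper4.F24He

open Cfsg.Spor Cfsg.Agent.Lib.Helper6.TC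
open scoped commutatorElement
open Cfsg.Agent.Lib.Helper6.TCD.Fi24a

/-- the seven elements -/
noncomputable def hf (i : ℕ) : Fi24 := elt (heWords.getD i [])

theorem elt_expand (r : List ℕ) : elt (expandW heWords r) = (r.map hf).prod := by
  induction r with
  | nil =>
    rw [expandW_nil, elt_nil]
    rfl
  | cons i r ih =>
    rw [expandW_cons, elt_append, ih, List.map_cons, List.prod_cons]
    rfl

theorem prod_eq_one_of_chk (r : List ℕ) (h : chkW (expandW heWords r) = true) :
    (r.map hf).prod = 1 := by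
  rw [← elt_expand]
  exact elt_eq_one_of_chk (expandW_lt heWords 12 heWords_lt r) h

theorem prod_replicate2 (i j m : ℕ) :
    ((List.replicate m [i, j]).flatten.map hf).prod = (hf i * hf j) ^ m := by
  induction m with
  | zero => rfl
  | succ m ih =>
    rw [List.replicate_succ, List.flatten_cons, List.map_append, List.prod_append, ih, pow_succ']
    simp [List.map_cons, List.prod_cons, mul_assoc]

theorem pow_swap {G : Type*} [Group G] (a b : G) (m : ℕ) (h : (a * b) ^ m = 1) : (b * a) ^ m = 1 := by
  have e : b * a = a⁻¹ * (a * b) * (a⁻¹)⁻¹ := by group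
  rw [e, conj_pow, h]
  group

theorem sq0 : hf 0 * hf 0 = 1 := by
  have h := prod_eq_one_of_chk _ chk_sq0
  simpa [List.map_cons, List.prod_cons] using h

theorem sq1 : hf 1 * hf 1 = 1 := by
  have h := prod_eq_one_of_chk _ chk_sq1
  simpa [List.map_cons, List.prod_cons] using h

theorem sq2 : hf 2 * hf 2 = 1 := by
  have h := prod_eq_one_of_chk _ chk_sq2
  simpa [List.map_cons, List.prod_cons] using h

theorem sq3 : hf 3 * hf 3 = 1 := by
  have h := prod_eq_one_of_chk _ chk_sq3
  simpa [List.map_cons, List.prod_cons] using h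

theorem sq4 : hf 4 * hf 4 = 1 := by
  have h := prod_eq_one_of_chk _ chk_sq4
  simpa [List.map_cons, List.prod_cons] using h

theorem sq5 : hf 5 * hf 5 = 1 := by
  have h := prod_eq_one_of_chk _ chk_sq5
  simpa [List.map_cons, List.prod_cons] using h

theorem sq6 : hf 6 * hf 6 = 1 := by
  have h := prod_eq_one_of_chk _ chk_sq6
  simpa [List.map_cons, List.prod_cons] using h

theorem inv0 : (hf 0)⁻¹ = hf 0 := inv_eq_of_mul_eq_one_right sq0

theorem inv1 : (hf 1)⁻¹ = hf 1 := inv_eq_of_mul_eq_one_right sq1

theorem inv2 : (hf 2)⁻¹ = hf 2 := inv_eq_of_mul_eq_one_right sq2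

theorem inv3 : (hf 3)⁻¹ = hf 3 := inv_eq_of_mul_eq_one_right sq3

theorem inv4 : (hf 4)⁻¹ = hf 4 := inv_eq_of_mul_eq_one_right sq4

theorem inv5 : (hf 5)⁻¹ = hf 5 := inv_eq_of_mul_eq_one_right sq5

theorem inv6 : (hf 6)⁻¹ = hf 6 := inv_eq_of_mul_eq_one_right sq6

theorem p01 : (hf 0 * hf 1) ^ 4 = 1 := by
  rw [← prod_replicate2]
  exact prod_eq_one_of_chk _ chk_p01

theorem p02 : (hf 0 * hf 2) ^ 2 = 1 := by
  rw [← prod_replicate2]
  exact prod_eq_one_of_chk _ chk_p02

theorem p03 : (hf 0 * hf 3) ^ 2 = 1 := by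
  rw [← prod_replicate2]
  exact prod_eq_one_of_chk _ chk_p03

theorem p04 : (hf 0 * hf 4) ^ 2 = 1 := by
  rw [← prod_replicate2]
  exact prod_eq_one_of_chk _ chk_p04

theorem p05 : (hf 0 * hf 5) ^ 2 = 1 := by
  rw [← prod_replicate2]
  exact prod_eq_one_of_chk _ chk_p05

theorem p06 : (hf 0 * hf 6) ^ 2 = 1 := by
  rw [← prod_replicate2]
  exact prod_eq_one_of_chk _ chk_p06

theorem p12 : (hf 1 * hf 2) ^ 3 = 1 := by
  rw [← prod_replicate2]
  exact prod_eq_one_of_chk _ chk_p12

theorem p13 : (hf 1 * hf 3) ^ 2 = 1 := by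
  rw [← prod_replicate2]
  exact prod_eq_one_of_chk _ chk_p13

theorem p14 : (hf 1 * hf 4) ^ 2 = 1 := by
  rw [← prod_replicate2]
  exact prod_eq_one_of_chk _ chk_p14

theorem p15 : (hf 1 * hf 5) ^ 2 = 1 := by
  rw [← prod_replicate2]
  exact prod_eq_one_of_chk _ chk_p15

theorem p16 : (hf 1 * hf 6) ^ 2 = 1 := by
  rw [← prod_replicate2]
  exact prod_eq_one_of_chk _ chk_p16

theorem p23 : (hf 2 * hf 3) ^ 10 = 1 := by
  rw [← prod_replicate2]
  exact prod_eq_one_of_chk _ chk_p23

theorem p24 : (hf 2 * hf 4) ^ 2 = 1 := by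
  rw [← prod_replicate2]
  exact prod_eq_one_of_chk _ chk_p24

theorem p25 : (hf 2 * hf 5) ^ 2 = 1 := by
  rw [← prod_replicate2]
  exact prod_eq_one_of_chk _ chk_p25

theorem p26 : (hf 2 * hf 6) ^ 2 = 1 := by
  rw [← prod_replicate2]
  exact prod_eq_one_of_chk _ chk_p26

theorem p34 : (hf 3 * hf 4) ^ 3 = 1 := by
  rw [← prod_replicate2]
  exact prod_eq_one_of_chk _ chk_p34

theorem p35 : (hf 3 * hf 5) ^ 3 = 1 := by
  rw [← prod_replicate2]
  exact prod_eq_one_of_chk _ chk_p35

theorem p36 : (hf 3 * hf 6) ^ 3 = 1 := by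
  rw [← prod_replicate2]
  exact prod_eq_one_of_chk _ chk_p36

theorem p45 : (hf 4 * hf 5) ^ 2 = 1 := by
  rw [← prod_replicate2]
  exact prod_eq_one_of_chk _ chk_p45

theorem p46 : (hf 4 * hf 6) ^ 2 = 1 := by
  rw [← prod_replicate2]
  exact prod_eq_one_of_chk _ chk_p46

theorem p56 : (hf 5 * hf 6) ^ 4 = 1 := by
  rw [← prod_replicate2]
  exact prod_eq_one_of_chk _ chk_p56

theorem e1 : hf 4 * ((hf 5 * hf 6) ^ 2)⁻¹ = 1 := by
  have h := prod_eq_one_of_chk _ chk_e1
  simp only [List.map_cons, List.map_nil, List.prod_cons, List.prod_nil, mul_one] at h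
  rw [pow_two, mul_inv_rev, mul_inv_rev, inv5, inv6, ← h]
  group

theorem e2 : hf 4 * ((hf 0 * hf 1 * hf 2) ^ 3)⁻¹ = 1 := by
  have h := prod_eq_one_of_chk _ chk_e2
  simp only [List.map_cons, List.map_nil, List.prod_cons, List.prod_nil, mul_one] at h
  have hi : (hf 0 * hf 1 * hf 2)⁻¹ = hf 2 * hf 1 * hf 0 := by
    rw [mul_inv_rev, mul_inv_rev, inv0, inv1, inv2, mul_assoc]
  rw [← inv_pow, hi, pow_succ, pow_two, ← h]
  group

theorem e3 : hf 0 * ((hf 2 * hf 3) ^ 5)⁻¹ = 1 := by
  have h := prod_eq_one_of_chk _ chk_e3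
  simp only [List.map_cons, List.map_nil, List.prod_cons, List.prod_nil, mul_one] at h
  have hi : (hf 2 * hf 3)⁻¹ = hf 3 * hf 2 := by
    rw [mul_inv_rev, inv2, inv3]
  rw [← inv_pow, hi, ← h]
  simp only [pow_succ, pow_zero, one_mul, mul_assoc]

theorem e4 : (hf 2 * hf 3 * hf 5 * hf 6) ^ 4 = 1 := by
  have h := prod_eq_one_of_chk _ chk_e4
  rw [← h]
  simp only [List.replicate, List.flatten_cons, List.flatten_nil, List.cons_append, List.nil_append,
    List.append_nil, List.map_cons, List.map_nil, List.prod_cons, List.prod_nil, mul_one, pow_succ,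
    pow_zero, one_mul, mul_assoc]

/-- the images of the generators of the Held group -/
noncomputable def heGen : He.Gen → Fi24
  | .a => hf 0 | .b => hf 1 | .c => hf 2 | .d => hf 3 | .e => hf 4 | .f => hf 5 | .g => hf 6

theorem heGen_cox (x y : He.Gen) : (heGen x * heGen y) ^ coxLabel He.edges x y = 1 := by
  cases x <;> cases y
  · rw [show coxLabel He.edges He.Gen.a He.Gen.a = 1 from by decide]
    exact by rw [pow_one]; exact sq0
  · rw [show coxLabel He.edges He.Gen.a He.Gen.b = 4 from by decide]
    exact p01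
  · rw [show coxLabel He.edges He.Gen.a He.Gen.c = 2 from by decide]
    exact p02
  · rw [show coxLabel He.edges He.Gen.a He.Gen.d = 2 from by decide]
    exact p03
  · rw [show coxLabel He.edges He.Gen.a He.Gen.e = 2 from by decide]
    exact p04
  · rw [show coxLabel He.edges He.Gen.a He.Gen.f = 2 from by decide]
    exact p05
  · rw [show coxLabel He.edges He.Gen.a He.Gen.g = 2 from by decide]
    exact p06
  · rw [show coxLabel He.edges He.Gen.b He.Gen.a = 4 from by decide]
    exact pow_swap _ _ _ p01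
  · rw [show coxLabel He.edges He.Gen.b He.Gen.b = 1 from by decide]
    exact by rw [pow_one]; exact sq1
  · rw [show coxLabel He.edges He.Gen.b He.Gen.c = 3 from by decide]
    exact p12
  · rw [show coxLabel He.edges He.Gen.b He.Gen.d = 2 from by decide]
    exact p13
  · rw [show coxLabel He.edges He.Gen.b He.Gen.e = 2 from by decide]
    exact p14
  · rw [show coxLabel He.edges He.Gen.b He.Gen.f = 2 from by decide]
    exact p15
  · rw [show coxLabel He.edges He.Gen.b He.Gen.g = 2 from by decide]
    exact p16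
  · rw [show coxLabel He.edges He.Gen.c He.Gen.a = 2 from by decide]
    exact pow_swap _ _ _ p02
  · rw [show coxLabel He.edges He.Gen.c He.Gen.b = 3 from by decide]
    exact pow_swap _ _ _ p12
  · rw [show coxLabel He.edges He.Gen.c He.Gen.c = 1 from by decide]
    exact by rw [pow_one]; exact sq2
  · rw [show coxLabel He.edges He.Gen.c He.Gen.d = 10 from by decide]
    exact p23
  · rw [show coxLabel He.edges He.Gen.c He.Gen.e = 2 from by decide]
    exact p24
  · rw [show coxLabel He.edges He.Gen.c He.Gen.f = 2 from by decide]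
    exact p25
  · rw [show coxLabel He.edges He.Gen.c He.Gen.g = 2 from by decide]
    exact p26
  · rw [show coxLabel He.edges He.Gen.d He.Gen.a = 2 from by decide]
    exact pow_swap _ _ _ p03
  · rw [show coxLabel He.edges He.Gen.d He.Gen.b = 2 from by decide]
    exact pow_swap _ _ _ p13
  · rw [show coxLabel He.edges He.Gen.d He.Gen.c = 10 from by decide]
    exact pow_swap _ _ _ p23
  · rw [show coxLabel He.edges He.Gen.d He.Gen.d = 1 from by decide]
    exact by rw [pow_one]; exact sq3
  · rw [show coxLabel He.edges He.Gen.d He.Gen.e = 3 from by decide]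
    exact p34
  · rw [show coxLabel He.edges He.Gen.d He.Gen.f = 3 from by decide]
    exact p35
  · rw [show coxLabel He.edges He.Gen.d He.Gen.g = 3 from by decide]
    exact p36
  · rw [show coxLabel He.edges He.Gen.e He.Gen.a = 2 from by decide]
    exact pow_swap _ _ _ p04
  · rw [show coxLabel He.edges He.Gen.e He.Gen.b = 2 from by decide]
    exact pow_swap _ _ _ p14
  · rw [show coxLabel He.edges He.Gen.e He.Gen.c = 2 from by decide]
    exact pow_swap _ _ _ p24
  · rw [show coxLabel He.edges He.Gen.e He.Gen.d = 3 from by decide]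
    exact pow_swap _ _ _ p34
  · rw [show coxLabel He.edges He.Gen.e He.Gen.e = 1 from by decide]
    exact by rw [pow_one]; exact sq4
  · rw [show coxLabel He.edges He.Gen.e He.Gen.f = 2 from by decide]
    exact p45
  · rw [show coxLabel He.edges He.Gen.e He.Gen.g = 2 from by decide]
    exact p46
  · rw [show coxLabel He.edges He.Gen.f He.Gen.a = 2 from by decide]
    exact pow_swap _ _ _ p05
  · rw [show coxLabel He.edges He.Gen.f He.Gen.b = 2 from by decide]
    exact pow_swap _ _ _ p15
  · rw [show coxLabel He.edges He.Gen.f He.Gen.c = 2 from by decide]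
    exact pow_swap _ _ _ p25
  · rw [show coxLabel He.edges He.Gen.f He.Gen.d = 3 from by decide]
    exact pow_swap _ _ _ p35
  · rw [show coxLabel He.edges He.Gen.f He.Gen.e = 2 from by decide]
    exact pow_swap _ _ _ p45
  · rw [show coxLabel He.edges He.Gen.f He.Gen.f = 1 from by decide]
    exact by rw [pow_one]; exact sq5
  · rw [show coxLabel He.edges He.Gen.f He.Gen.g = 4 from by decide]
    exact p56
  · rw [show coxLabel He.edges He.Gen.g He.Gen.a = 2 from by decide]
    exact pow_swap _ _ _ p06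
  · rw [show coxLabel He.edges He.Gen.g He.Gen.b = 2 from by decide]
    exact pow_swap _ _ _ p16
  · rw [show coxLabel He.edges He.Gen.g He.Gen.c = 2 from by decide]
    exact pow_swap _ _ _ p26
  · rw [show coxLabel He.edges He.Gen.g He.Gen.d = 3 from by decide]
    exact pow_swap _ _ _ p36
  · rw [show coxLabel He.edges He.Gen.g He.Gen.e = 2 from by decide]
    exact pow_swap _ _ _ p46
  · rw [show coxLabel He.edges He.Gen.g He.Gen.f = 4 from by decide]
    exact pow_swap _ _ _ p56
  · rw [show coxLabel He.edges He.Gen.g He.Gen.g = 1 from by decide]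
    exact by rw [pow_one]; exact sq6

theorem heGen_rels : ∀ r ∈ coxRelators He.edges ∪ {r | r ∈ He.extra}, FreeGroup.lift heGen r = 1 := by
  intro r hr
  rcases hr with hr | hr
  · obtain ⟨x, _, y, _, rfl⟩ := hr
    rw [map_pow, map_mul, FreeGroup.lift_apply_of, FreeGroup.lift_apply_of]
    exact heGen_cox x y
  · have hr' : r ∈ He.extra := hr
    simp only [He.extra, List.mem_cons, List.not_mem_nil, or_false] at hr'
    rcases hr' with rfl | rfl | rfl | rfl
    · simp only [map_mul, map_pow, map_inv, FreeGroup.lift_apply_of, He.e, He.f, He.g]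
      exact e1
    · simp only [map_mul, map_pow, map_inv, FreeGroup.lift_apply_of, He.e, He.a, He.b, He.c]
      exact e2
    · simp only [map_mul, map_pow, map_inv, FreeGroup.lift_apply_of, He.a, He.c, He.d]
      exact e3
    · simp only [map_mul, map_pow, map_inv, FreeGroup.lift_apply_of, He.c, He.d, He.f, He.g]
      exact e4

/-- the homomorphism from the presented Held group -/
noncomputable def heHom : He →* Fi24 := PresentedGroup.toGroup heGen_rels

theorem heHom_of (x : He.Gen) : heHom (PresentedGroup.of x) = heGen x :=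
  PresentedGroup.toGroup.of heGen_rels

theorem hf0_ne_one : hf 0 ≠ 1 :=
  elt_ne_one_of_move (heWords_lt _ (by simp [heWords])) 0 (by decide) (by decide +kernel)

theorem hf01_sq_ne_one : (hf 0 * hf 1) ^ 2 ≠ 1 := by
  have h : elt (expandW heWords [0, 1, 0, 1]) ≠ 1 :=
    elt_ne_one_of_move (expandW_lt heWords 12 heWords_lt _) 0 (by decide) (by decide +kernel)
  rw [elt_expand] at h
  simpa [List.map_cons, List.prod_cons, pow_two, mul_assoc] using h

instance : IsSimpleGroup He := Cfsg.Agent.S1695.result.1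

theorem heHom_injective : Function.Injective heHom := by
  rw [← MonoidHom.ker_eq_bot_iff]
  rcases (heHom.normal_ker).eq_bot_or_eq_top with h | h
  · exact h
  · exfalso
    have h1 : PresentedGroup.of He.Gen.a ∈ heHom.ker := by
      rw [h]
      trivial
    rw [MonoidHom.mem_ker, heHom_of] at h1
    exact hf0_ne_one h1

theorem he_commutator_top : commutator He = ⊤ := by
  rcases (inferInstance : (commutator He).Normal).eq_bot_or_eq_top with h | h
  · exfalso
    have hc : ∀ x y : He, x * y = y * x := by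
      intro x y
      have : ⁅x, y⁆ ∈ commutator He := Subgroup.commutator_mem_commutator (Subgroup.mem_top x) (Subgroup.mem_top y)
      rw [h, Subgroup.mem_bot, commutatorElement_eq_one_iff_mul_comm] at this
      exact this
    have h2 := hc (PresentedGroup.of He.Gen.a) (PresentedGroup.of He.Gen.b)
    have h3 := congrArg heHom h2
    rw [map_mul, map_mul, heHom_of, heHom_of] at h3
    apply hf01_sq_ne_one
    show (hf 0 * hf 1) ^ 2 = 1
    have h4 : hf 0 * hf 1 = hf 1 * hf 0 := h3
    rw [pow_two]
    calc hf 0 * hf 1 * (hf 0 * hf 1) = hf 0 * hf 1 * (hf 1 * hf 0) := by rw [h4]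
      _ = hf 0 * (hf 1 * hf 1) * hf 0 := by group
      _ = 1 := by rw [sq1, mul_one, sq0]
  · exact h

theorem range_le_commutator : heHom.range ≤ commutator Fi24 := by
  rw [MonoidHom.range_eq_map, ← he_commutator_top, commutator_def, Subgroup.map_commutator]
  exact Subgroup.commutator_mono le_top le_top

/-- a subgroup of the commutator subgroup of Fi24 that is simple of the order of the Held group -/
theorem exists_he : ∃ K : Subgroup (commutator Fi24), Cfsg.IsHe K := by
  refine ⟨heHom.range.subgroupOf (commutator Fi24), ?_⟩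
  let e1 : He ≃* heHom.range := MonoidHom.ofInjective heHom_injective
  let e2 : heHom.range.subgroupOf (commutator Fi24) ≃* heHom.range :=
    Subgroup.subgroupOfEquivOfLe range_le_commutator
  let e : He ≃* heHom.range.subgroupOf (commutator Fi24) := e1.trans e2.symm
  have hs : IsSimpleGroup (heHom.range.subgroupOf (commutator Fi24)) :=
    e.symm.isSimpleGroup
  refine ⟨hs, ?_⟩
  rw [← Nat.card_congr e.toEquiv]
  exact Cfsg.Agent.S1695.result.2

end Cfsg.Agent.Lib.Helper4.F24He
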