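import Cfsg.Agent.Lib.Helper4.F24He.Base
import Cfsg.Agent.Lib.Helper6.TT2

set_option autoImplicit false
set_option maxRecDepth 100000

/-! # The class of 3-transpositions of the presented group Fi24, the centralizers of its members and
the subgroups of the order of Fi23 -/

namespace Cfsg.Agent.Lib.Helper4.F24He

open Cfsg Cfsg.Spor Cfsg.Agent.Lib.Helper6.TC
open scoped commutatorElement
open Cfsg.Agent.Lib.Helper6.TCP.Fi24
open Cfsg.Agent.Lib.Helper6.TCD.Fi24a hiding H0
open Cfsg.Agent.Lib.Helper6.Fi24Theta Cfsg.Agent.Lib.Helper6.Fi24Orb Cfsg.Agent.Lib.Helper6.Fi24H0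

/-- a simple group that is not commutative is perfect -/
theorem comm_top_of_simple {G : Type*} [Group G] [IsSimpleGroup G] (h : ∃ a b : G, a * b ≠ b * a) :
    commutator G = ⊤ := by
  rcases (inferInstance : (commutator G).Normal).eq_bot_or_eq_top with h0 | h0
  · exfalso
    obtain ⟨a, b, hab⟩ := h
    have : ⁅a, b⁆ ∈ commutator G :=
      Subgroup.commutator_mem_commutator (Subgroup.mem_top a) (Subgroup.mem_top b)
    rw [h0, Subgroup.mem_bot, commutatorElement_eq_one_iff_mul_comm] at this
    exact hab this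
  · exact h0

/-- a perfect subgroup lies in the commutator subgroup -/
theorem le_commutator_of_perfect {G : Type*} [Group G] (S : Subgroup G) (h : commutator S = ⊤) :
    S ≤ commutator G := by
  have h1 : (commutator S).map S.subtype ≤ commutator G := by
    rw [commutator_def, Subgroup.map_commutator, commutator_def]
    exact Subgroup.commutator_mono le_top le_top
  rw [h, ← MonoidHom.range_eq_map, Subgroup.range_subtype] at h1
  exact h1

theorem centralizer_L : Subgroup.centralizer {L} = H0 := by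
  have hle : H0 ≤ Subgroup.centralizer {L} := by
    intro h hh
    rw [Subgroup.mem_centralizer_iff]
    intro y hy
    rw [Set.mem_singleton_iff] at hy
    subst hy
    exact L_central h hh
  rcases hmax _ hle with h | h
  · exact h
  · exfalso
    apply L_ne_one
    refine eq_one_of_central L ?_ L_mem_H0
    intro x
    have hx : x ∈ Subgroup.centralizer {L} := by
      rw [h]
      trivial
    rw [Subgroup.mem_centralizer_iff] at hx
    exact (hx L rfl).symm

theorem orderOf_L : orderOf L = 2 := by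
  have : Fact (Nat.Prime 2) := ⟨Nat.prime_two⟩
  apply orderOf_eq_prime
  · rw [pow_two]
    exact L_sq
  · exact L_ne_one

theorem rep_idx : H0.index = 306936 ∧ ∃ q₁ q₂ : Fi24 ⧸ H0,
    (MulAction.orbit H0 q₁).ncard = 275264 ∧ (MulAction.orbit H0 q₂).ncard = 31671 := by
  obtain ⟨_, _, _, _, hidx, hq⟩ := rep
  exact ⟨hidx, hq⟩

theorem Lk_cube : (L * X (gen 1)) ^ 3 = 1 := by
  have := cox_rel Fi24.Gen.l Fi24.Gen.k
  rw [show coxLabel Fi24.edges Fi24.Gen.l Fi24.Gen.k = 3 from by decide, map_pow, map_mul] at this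
  exact this

theorem La_sq : (L * X (gen 2)) ^ 2 = 1 := by
  have := cox_rel Fi24.Gen.l Fi24.Gen.a
  rw [show coxLabel Fi24.edges Fi24.Gen.l Fi24.Gen.a = 2 from by decide, map_pow, map_mul] at this
  exact this

theorem Lk_ne_one : L * X (gen 1) ≠ 1 := by
  intro h
  apply Xk_not_mem
  have e : X (gen 1) = L := by
    have h2 : X (gen 1) = L⁻¹ := eq_inv_of_mul_eq_one_right h
    rw [h2]
    exact inv_eq_of_mul_eq_one_right L_sq
  rw [e]
  exact L_mem_H0

/-- the products of `L` with its conjugates have order at most three -/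
theorem tt_L : ∀ g : Fi24, (L * (g * L * g⁻¹)) ^ 2 = 1 ∨ (L * (g * L * g⁻¹)) ^ 3 = 1 := by
  obtain ⟨hidx, q₁, q₂, h1, h2⟩ := rep_idx
  have hk : L * (X (gen 1) * L * (X (gen 1))⁻¹) = (L * X (gen 1)) ^ 2 := by
    rw [X_inv, pow_two]
    group
  refine Cfsg.Agent.Lib.Helper6.TT.three_transp_of_rank3 H0 L (fun h hh => (L_central h hh).symm)
    L_sq hidx q₁ q₂ h1 h2 (by norm_num) (by norm_num) (by norm_num) (by norm_num)
    (elt (cw 2)) (X (gen 1)) ?_ ?_ ?_ ?_
  · intro hmem
    have h3 := L_central _ hmem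
    have h4 := cw_conj 2 (by decide)
    apply A_ne_L
    show X (gen 2) = L
    rw [← h4, ← h3, mul_assoc, mul_inv_cancel, mul_one]
  · rw [cw_conj 2 (by decide)]
    exact La_sq
  · rw [hk, ← pow_mul]
    intro h
    apply Lk_ne_one
    have h4 : (L * X (gen 1)) ^ 4 = (L * X (gen 1)) ^ 3 * (L * X (gen 1)) := pow_succ _ 3
    rw [show 2 * 2 = 4 from rfl, h4, Lk_cube, one_mul] at h
    exact h
  · rw [hk, ← pow_mul, mul_comm, pow_mul, Lk_cube, one_pow]

/-- the class of the transposition `L` -/
noncomputable def D24 : Set Fi24 := conjugatesOf L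

theorem gen_mem_D24 (c : ℕ) (hc : c < 12) : X (gen c) ∈ D24 := by
  show IsConj L (X (gen c))
  rw [isConj_iff]
  exact ⟨elt (cw c), cw_conj c hc⟩

theorem closure_D24 : Subgroup.closure D24 = ⊤ := by
  rw [eq_top_iff, ← PresentedGroup.closure_range_of Rels]
  apply Subgroup.closure_mono
  rintro _ ⟨x, rfl⟩
  have := gen_mem_D24 (col x) (col_lt x)
  rw [gen_col] at this
  exact this

theorem isTT_D24 : IsThreeTranspositionClass D24 :=
  ⟨Cfsg.Agent.Lib.Helper6.TT.isThreeTranspositionSet_conjugatesOf L orderOf_L tt_L,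
    ⟨L, mem_conjugatesOf_self, rfl⟩, closure_D24⟩

theorem card_D24 : Nat.card D24 = 306936 := by
  show Nat.card (conjugatesOf L) = 306936
  rw [Cfsg.Agent.Lib.Helper6.TT.card_conjugatesOf, centralizer_L]
  exact rep_idx.1

instance : Finite Fi24 := card_Fi24.1

theorem S1_isFi23 : IsFi23 S1 := ⟨S1_simple, card_S1⟩

/-- the centralizers of the transpositions -/
theorem cent_D24 : ∀ d ∈ D24, Nat.card (Subgroup.centralizer ({d} : Set Fi24)) = 2 * 4089470473293004800 ∧
    ∃ K : Subgroup Fi24, K ≤ Subgroup.centralizer ({d} : Set Fi24) ∧ IsFi23 K := by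
  intro d hd
  obtain ⟨c, rfl⟩ := isConj_iff.mp (show IsConj L d from hd)
  constructor
  · rw [← Nat.card_congr (Cfsg.Agent.Lib.Helper6.TT.centralizerConjEquiv c L).toEquiv, centralizer_L]
    exact card_H0.2
  · refine ⟨S1.map (MulAut.conj c).toMonoidHom, ?_, ?_⟩
    · rintro _ ⟨s, hs, rfl⟩
      rw [Subgroup.mem_centralizer_iff]
      intro y hy
      rw [Set.mem_singleton_iff] at hy
      subst hy
      have h1 := L_central s (S1_le hs)
      show c * L * c⁻¹ * (c * s * c⁻¹) = c * s * c⁻¹ * (c * L * c⁻¹)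
      calc c * L * c⁻¹ * (c * s * c⁻¹) = c * (L * s) * c⁻¹ := by group
        _ = c * (s * L) * c⁻¹ := by rw [h1]
        _ = c * s * c⁻¹ * (c * L * c⁻¹) := by group
    · let e : S1 ≃* S1.map (MulAut.conj c).toMonoidHom :=
        S1.equivMapOfInjective _ (MulAut.conj c).injective
      have := S1_simple
      refine ⟨e.symm.isSimpleGroup, ?_⟩
      rw [← Nat.card_congr e.toEquiv]
      exact card_S1

theorem index_comm : (commutator Fi24).index = 2 := by
  have h := Subgroup.index_mul_card (commutator Fi24)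
  rw [Cfsg.Agent.S1698.card_comm, card_Fi24.2] at h
  exact Nat.eq_of_mul_eq_mul_right (by norm_num) h

theorem S1_le_comm : S1 ≤ commutator Fi24 := by
  apply le_commutator_of_perfect
  apply comm_top_of_simple
  obtain ⟨a, ha, b, hb, hab⟩ := hnc
  refine ⟨⟨a, ha⟩, ⟨b, hb⟩, ?_⟩
  intro h
  exact hab (congrArg Subtype.val h)

theorem exists_fi23 : ∃ K : Subgroup (commutator Fi24), IsFi23 K := by
  refine ⟨S1.subgroupOf (commutator Fi24), ?_⟩
  let e : S1.subgroupOf (commutator Fi24) ≃* S1 := Subgroup.subgroupOfEquivOfLe S1_le_comm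
  have := S1_simple
  refine ⟨e.isSimpleGroup, ?_⟩
  rw [Nat.card_congr e.toEquiv]
  exact card_S1

end Cfsg.Agent.Lib.Helper4.F24He
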